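import Groth.Agent.GmAlmostLib.Unit
import Groth.Agent.GmBidualLib.CharZero
import Groth.Agent.MultUnipLib.Retract
import Groth.Agent.UnipHopfLib.BaseChange

/-!
# A representable dual forces the unipotent part to have finitely many points
-/

set_option autoImplicit false
set_option backward.isDefEq.respectTransparency false
set_option linter.style.haveILetI false
set_option maxHeartbeats 1600000
universe u

open CategoryTheory CategoryTheory.Limits MonoidalCategory CartesianMonoidalCategory AlgebraicGeometry Opposite CoactBr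
open GmCharLib (uSec)
open GmVanishLib (shf shfMap fns fns_comp_pt fns_injective)
open scoped MonObj TensorProduct

attribute [local instance] CoactBr.braidedAlgSpecOf
attribute [-instance] CategoryTheory.Hom.commGroup

noncomputable section

namespace GmAlmostLib

/-- Nonzero vectors whose coordinate products are linear in the vector are finitely many. -/
theorem finite_multiplicative {K : Type*} [Field K] {d : Type*} [Fintype d] (S : Set (d → K))
    (h0 : ∀ c ∈ S, c ≠ 0) (L : d → d → (d → K) →ₗ[K] K) (hS : ∀ c ∈ S, ∀ j l, c j * c l = L j l c) : S.Finite := by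
  classical
  have hli : LinearIndependent K (fun c : S => (c : d → K)) := by
    rw [linearIndependent_iff']
    intro s
    induction s using Finset.induction_on with
    | empty => intro a _ i hi; simp at hi
    | insert c₀ s hc₀ ih =>
      intro a ha
      have hmul : ∀ j, ∑ c ∈ s, (a c * ((c : d → K) j - (c₀ : d → K) j)) • (c : d → K) = 0 := fun j => by
        have h1 : ∑ c ∈ insert c₀ s, (a c * (c : d → K) j) • (c : d → K) = 0 := by
          funext l
          have h2 := congrArg (L j l) ha
          rw [map_sum, map_zero] at h2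
          rw [Finset.sum_apply, Pi.zero_apply, ← h2]
          refine Finset.sum_congr rfl fun c _ => ?_
          rw [map_smul, ← hS c c.2 j l, Pi.smul_apply, smul_eq_mul, smul_eq_mul, mul_assoc]
        have h2 : ∑ c ∈ insert c₀ s, (a c * (c₀ : d → K) j) • (c : d → K) = 0 := by
          rw [← smul_zero ((c₀ : d → K) j), ← ha, Finset.smul_sum]
          exact Finset.sum_congr rfl fun c _ => by rw [smul_smul, mul_comm]
        have h3 : ∑ c ∈ insert c₀ s, (a c * ((c : d → K) j - (c₀ : d → K) j)) • (c : d → K) = 0 := by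
          rw [Finset.sum_congr rfl fun c _ => show (a c * ((c : d → K) j - (c₀ : d → K) j)) • (c : d → K) =
            (a c * (c : d → K) j) • (c : d → K) - (a c * (c₀ : d → K) j) • (c : d → K) by rw [mul_sub, sub_smul],
            Finset.sum_sub_distrib, h1, h2, sub_zero]
        rwa [Finset.sum_insert hc₀, sub_self, mul_zero, zero_smul, zero_add] at h3
      have hz : ∀ c ∈ s, a c = 0 := fun c hc => by
        by_contra hne
        have : (c : d → K) = (c₀ : d → K) := funext fun j =>
          sub_eq_zero.1 ((mul_eq_zero.1 (ih _ (hmul j) c hc)).resolve_left hne)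
        exact hc₀ (Subtype.ext this ▸ hc)
      intro i hi
      rcases Finset.mem_insert.1 hi with rfl | hi
      · rw [Finset.sum_insert hc₀, Finset.sum_eq_zero fun c hc => by rw [hz c hc, zero_smul], add_zero] at ha
        exact (smul_eq_zero.1 ha).resolve_right (h0 _ i.2)
      · exact hz i hi
  exact Set.finite_coe_iff.1 hli.finite

variable {k : Type u} [Field k]

local notation "Jf" => QuotSh.J Scheme.fppfPrecoverage (Spec (CommRingCat.of k))
local notation "Gms" => GmExtLib.G (Spec (CommRingCat.of k))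

/-- Over a field a homomorphism from a unipotent group is trivial. -/
theorem eq_zero_of_unipotent {B : Type u} [CommRing B] [HopfAlgebra k B] [Coalgebra.IsCocomm k B]
    (hK : ∀ b : B, ∃ n, b ∈ Groth.Agent.UnipHopf.K k B n) {L : Type u} [Field L] [Algebra k L]
    (χ : CategoryTheory.Sheaf.over (shf (k := k) B) (sp k L) ⟶
      CategoryTheory.Sheaf.over (GmExtLib.G (Spec (CommRingCat.of k))) (sp k L)) : χ = 0 := by
  refine eq_of_cu_eq χ (Units.ext ?_)
  rw [cu_zero, Units.val_one]
  exact Groth.Agent.MultUnip.eq_one_of_groupLike (Groth.Agent.DiagHopf.groupLike_of_isGL (isGL_cu χ))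
    (Groth.Agent.UnipHopf.exhaustive_baseChange hK)

variable {A B : Type u} [CommRing A] [HopfAlgebra k A] [Coalgebra.IsCocomm k A] [Algebra.FiniteType k A]
  [CommRing B] [HopfAlgebra k B] [Coalgebra.IsCocomm k B] [Algebra.FiniteType k B]

/-- The universal unit of the characters of the unipotent part. -/
theorem exists_universal_unit (J : Ideal A) [J.IsHopfIdeal k] [Coalgebra.IsCocomm k (A ⧸ J)] (ψ : B →ₐc[k] A)
    (hψ : Function.Injective ψ) (hJ : J = Ideal.map (ψ : B →+* A) (RingHom.ker (Bialgebra.counitAlgHom k B)))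
    (hK : ∀ b : B, ∃ n, b ∈ Groth.Agent.UnipHopf.K k B n)
    (D : Over (Spec (CommRingCat.of k))) [GrpObj D] [IsCommMonObj D]
    (e : CGrpSh.pts Scheme.fppfPrecoverage D ≅ CGrpSh2.dualSh Scheme.fppfPrecoverage (shf (k := k) A)) :
    ∃ (R : Type u) (_ : CommRing R) (_ : Algebra k R)
      (β : CategoryTheory.Sheaf.over (shf (k := k) B) (sp k R) ⟶
        CategoryTheory.Sheaf.over (GmExtLib.G (Spec (CommRingCat.of k))) (sp k R)),
      Nontrivial R ∧ ∀ (C : Type u) [CommRing C] [Algebra k C]
        (b : CategoryTheory.Sheaf.over (shf (k := k) B) (sp k C) ⟶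
          CategoryTheory.Sheaf.over (GmExtLib.G (Spec (CommRingCat.of k))) (sp k C)),
        ∃ φ : R →ₐ[k] C, (cu b : C ⊗[k] B) = Algebra.TensorProduct.map φ (AlgHom.id k B) (cu β : R ⊗[k] B) := by
  let q := Bialgebra.Quotient.mkBialgHom (R := k) J
  obtain ⟨w0, hses⟩ := GmVanishLib.shortExact_of_injective ψ hψ q Ideal.Quotient.mk_surjective (Ideal.mk_ker.trans hJ)
  let F := shf (k := k) A
  -- the point of a character of the unipotent part
  let ext' : ∀ (C : Type u) [CommRing C] [Algebra k C], (CategoryTheory.Sheaf.over (shf (k := k) B) (sp k C) ⟶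
      CategoryTheory.Sheaf.over Gms (sp k C)) → (CategoryTheory.Sheaf.over F (sp k C) ⟶ CategoryTheory.Sheaf.over Gms (sp k C)) :=
    fun C _ _ b => ((Jf).overPullback AddCommGrpCat.{u + 1} (sp k C)).map (shfMap ψ) ≫ b
  let pnt : ∀ (C : Type u) [CommRing C] [Algebra k C],
      (CategoryTheory.Sheaf.over F (sp k C) ⟶ CategoryTheory.Sheaf.over Gms (sp k C)) → (sp k C ⟶ D) :=
    fun C _ _ x => (e.inv.hom.app (op (sp k C)) x).down.toMul
  have hpnt_map : ∀ {C C' : Type u} [CommRing C] [Algebra k C] [CommRing C'] [Algebra k C'] (φ : C →ₐ[k] C')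
      (x : CategoryTheory.Sheaf.over F (sp k C) ⟶ CategoryTheory.Sheaf.over Gms (sp k C)),
      pnt C' (((Jf).overMapPullback AddCommGrpCat.{u + 1} (pt φ)).map x) = pt φ ≫ pnt C x := fun φ x =>
    congrArg (fun v => v.down.toMul) (NatTrans.naturality_apply e.inv.hom (pt φ).op x)
  let chi : ∀ (C : Type u) [CommRing C] [Algebra k C], (sp k C ⟶ D) →
      (CategoryTheory.Sheaf.over F (sp k C) ⟶ CategoryTheory.Sheaf.over Gms (sp k C)) :=
    fun C _ _ x => e.hom.hom.app (op (sp k C)) (GmExtLib.ptSec x)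
  have hchi : ∀ (C : Type u) [CommRing C] [Algebra k C]
      (x : CategoryTheory.Sheaf.over F (sp k C) ⟶ CategoryTheory.Sheaf.over Gms (sp k C)), chi C (pnt C x) = x :=
    fun C _ _ x => congrArg (fun f => f.hom.app (op (sp k C)) x) e.inv_hom_id
  have hchi_map : ∀ {C C' : Type u} [CommRing C] [Algebra k C] [CommRing C'] [Algebra k C'] (φ : C →ₐ[k] C')
      (x : sp k C ⟶ D), chi C' (pt φ ≫ x) = ((Jf).overMapPullback AddCommGrpCat.{u + 1} (pt φ)).map (chi C x) :=
    fun φ x => NatTrans.naturality_apply e.hom.hom (pt φ).op (GmExtLib.ptSec x)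
  -- an affine chart at the origin
  haveI : Nonempty ↥(𝟙_ (Over (Spec (CommRingCat.of k)))).left := inferInstanceAs (Nonempty (PrimeSpectrum k))
  haveI : Subsingleton ↥(𝟙_ (Over (Spec (CommRingCat.of k)))).left := inferInstanceAs (Subsingleton (PrimeSpectrum k))
  let d₀ := (η[D] : 𝟙_ (Over (Spec (CommRingCat.of k))) ⟶ D).left (Classical.arbitrary _)
  obtain ⟨U, hU, hdU, -⟩ := AlgebraicGeometry.exists_isAffineOpen_mem_and_subset (X := D.left) (U := ⊤) (x := d₀) trivial
  haveI : IsAffine (Over.mk (U.ι ≫ D.hom)).left := hU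
  obtain ⟨C₀, _, _, ⟨eU⟩⟩ := AntiAffLib.exists_sp_iso (Over.mk (U.ι ≫ D.hom))
  let inclU : Over.mk (U.ι ≫ D.hom) ⟶ D := Over.homMk U.ι rfl
  have hfac : ∀ (C : Type u) [CommRing C] [Algebra k C]
      (b : CategoryTheory.Sheaf.over (shf (k := k) B) (sp k C) ⟶ CategoryTheory.Sheaf.over Gms (sp k C)),
      ∃ φ : C₀ →ₐ[k] C, pnt C (ext' C b) = pt φ ≫ eU.hom ≫ inclU := fun C _ _ b => by
    have hrange : Set.range (pnt C (ext' C b)).left ⊆ Set.range U.ι := by
      rintro _ ⟨P, rfl⟩
      rw [Scheme.Opens.range_ι]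
      let P' : PrimeSpectrum C := P
      let L := P'.asIdeal.ResidueField
      let π : C →ₐ[k] L := IsScalarTower.toAlgHom k C L
      have hz : ((Jf).overMapPullback AddCommGrpCat.{u + 1} (pt π)).map (ext' C b) = 0 := by
        have h0 := eq_zero_of_unipotent hK (((Jf).overMapPullback AddCommGrpCat.{u + 1} (pt π)).map b)
        show ((Jf).overMapPullback AddCommGrpCat.{u + 1} (pt π)).map
          (((Jf).overPullback AddCommGrpCat.{u + 1} (sp k C)).map (shfMap ψ) ≫ b) = 0
        rw [Functor.map_comp, h0, comp_zero]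
      have hone : pt π ≫ pnt C (ext' C b) = 1 := by
        rw [← hpnt_map, hz]
        exact congrArg (fun v => v.down.toMul) (map_zero (e.inv.hom.app (op (sp k L))).hom)
      let o : PrimeSpectrum L := ⊥
      have ho : (pt π).left o = P := by
        refine PrimeSpectrum.ext ?_
        show Ideal.comap (algebraMap C L) ⊥ = P'.asIdeal
        exact Ideal.ker_algebraMap_residueField _
      have h1 : (pt π ≫ pnt C (ext' C b)).left o = d₀ := by
        rw [hone, Hom.one_def, Over.comp_left, Scheme.Hom.comp_apply]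
        exact congrArg _ (Subsingleton.elim _ _)
      rw [Over.comp_left, Scheme.Hom.comp_apply, ho] at h1
      rw [h1]
      exact hdU
    let l := IsOpenImmersion.lift U.ι (pnt C (ext' C b)).left hrange
    have hl : l ≫ U.ι = (pnt C (ext' C b)).left := IsOpenImmersion.lift_fac _ _ _
    let l' : sp k C ⟶ Over.mk (U.ι ≫ D.hom) := Over.homMk l (by
      show l ≫ U.ι ≫ D.hom = _
      rw [← Category.assoc, hl, Over.w])
    obtain ⟨φ, hφ⟩ := Groth.Agent.DiagRep.exists_pt (l' ≫ eU.inv)
    refine ⟨φ, ?_⟩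
    rw [← hφ, Category.assoc, Iso.inv_hom_id_assoc]
    exact Over.OverMorphism.ext hl.symm
  let χ₀ := chi C₀ (eU.hom ≫ inclU)
  -- the closed condition of triviality on the subgroup
  let bas := Module.Free.chooseBasis k (A ⧸ J)
  let z : C₀ ⊗[k] (A ⧸ J) := Algebra.TensorProduct.map (AlgHom.id k C₀) (q : A →ₐ[k] A ⧸ J) (cu χ₀ : C₀ ⊗[k] A) - 1
  let I : Ideal C₀ := Ideal.span (Set.range fun j => (Algebra.TensorProduct.basis C₀ bas).repr z j)
  let m : C₀ →ₐ[k] C₀ ⧸ I := Ideal.Quotient.mkₐ k I
  let xR := ((Jf).overMapPullback AddCommGrpCat.{u + 1} (pt m)).map χ₀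
  have hcomm : ∀ {C' : Type u} [CommRing C'] [Algebra k C'] (φ : C₀ →ₐ[k] C'),
      Algebra.TensorProduct.map (AlgHom.id k C') (q : A →ₐ[k] A ⧸ J)
          (Algebra.TensorProduct.map φ (AlgHom.id k A) (cu χ₀ : C₀ ⊗[k] A)) - 1 =
        Groth.Agent.TorusField.push φ z := fun φ => by
    simp only [z, map_sub, map_one]
    congr 1
    generalize (cu χ₀ : C₀ ⊗[k] A) = t
    induction t using TensorProduct.induction_on with
    | zero => simp
    | add x y hx hy => simp only [map_add, hx, hy]
    | tmul x y => rfl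
  have htriv : ((Jf).overPullback AddCommGrpCat.{u + 1} (sp k (C₀ ⧸ I))).map (shfMap q) ≫ xR = 0 := by
    refine eq_of_cu_eq _ (Units.ext ?_)
    rw [cu_comp, cu_map, cu_zero, Units.val_one]
    show Algebra.TensorProduct.map (AlgHom.id k _) (q : A →ₐ[k] A ⧸ J)
      (Algebra.TensorProduct.map m (AlgHom.id k A) (cu χ₀ : C₀ ⊗[k] A)) = 1
    rw [← sub_eq_zero, hcomm]
    refine (Algebra.TensorProduct.basis (C₀ ⧸ I) bas).repr.injective (Finsupp.ext fun j => ?_)
    rw [Groth.Agent.DiagHopf.repr_basis_push, map_zero, Finsupp.zero_apply]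
    exact Ideal.Quotient.eq_zero_iff_mem.2 (Ideal.subset_span ⟨j, rfl⟩)
  have h' := GaBidualLib.shortExact_over Jf hses (sp k (C₀ ⧸ I))
  haveI := h'.epi_g
  let β : CategoryTheory.Sheaf.over (shf (k := k) B) (sp k (C₀ ⧸ I)) ⟶ CategoryTheory.Sheaf.over Gms (sp k (C₀ ⧸ I)) :=
    h'.exact.desc xR htriv
  have hβ : ext' (C₀ ⧸ I) β = xR := h'.exact.g_desc xR htriv
  have key : ∀ (C : Type u) [CommRing C] [Algebra k C]
      (b : CategoryTheory.Sheaf.over (shf (k := k) B) (sp k C) ⟶ CategoryTheory.Sheaf.over Gms (sp k C)),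
      ∃ φ : (C₀ ⧸ I) →ₐ[k] C, (cu b : C ⊗[k] B) = Algebra.TensorProduct.map φ (AlgHom.id k B) (cu β : (C₀ ⧸ I) ⊗[k] B) :=
    fun C _ _ b => by
      obtain ⟨φ, hφ⟩ := hfac C b
      have hx : ext' C b = ((Jf).overMapPullback AddCommGrpCat.{u + 1} (pt φ)).map χ₀ := by
        rw [← hchi_map, ← hφ, hchi]
      have hu : Algebra.TensorProduct.map φ (AlgHom.id k A) (cu χ₀ : C₀ ⊗[k] A) = (cu (ext' C b) : C ⊗[k] A) := by
        rw [hx, cu_map]; rfl
      have hzero : ∀ a ∈ I, φ a = 0 := by
        have hq0 : Algebra.TensorProduct.map (AlgHom.id k C) (q : A →ₐ[k] A ⧸ J) (cu (ext' C b) : C ⊗[k] A) = 1 := by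
          have h : ((Jf).overPullback AddCommGrpCat.{u + 1} (sp k C)).map (shfMap q) ≫ ext' C b = 0 := by
            show _ ≫ _ ≫ b = 0
            rw [← Category.assoc, ← Functor.map_comp, w0, Functor.map_zero, zero_comp]
          have h2 := congrArg (fun x => (cu x : C ⊗[k] (A ⧸ J))) h
          simpa [cu_comp, cu_zero] using h2
        intro a ha
        refine (Ideal.span_le.2 ?_ ha : a ∈ RingHom.ker φ)
        rintro _ ⟨j, rfl⟩
        show φ _ = 0
        rw [← Groth.Agent.DiagHopf.repr_basis_push bas φ z j, ← hcomm, hu, hq0, sub_self, map_zero, Finsupp.zero_apply]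
      let φ' : (C₀ ⧸ I) →ₐ[k] C := Ideal.Quotient.liftₐ I φ hzero
      refine ⟨φ', ?_⟩
      have hinj : Function.Injective (Algebra.TensorProduct.map (AlgHom.id k C) (ψ : B →ₐ[k] A)) :=
        Module.Flat.lTensor_preserves_injective_linearMap (M := C) (ψ : B →ₐ[k] A).toLinearMap hψ
      apply hinj
      have h1 : Algebra.TensorProduct.map (AlgHom.id k C) (ψ : B →ₐ[k] A) (cu b : C ⊗[k] B) =
          (cu (ext' C b) : C ⊗[k] A) :=
        (congrArg Units.val (cu_comp b ψ)).symm
      have h2 : Algebra.TensorProduct.map (AlgHom.id k (C₀ ⧸ I)) (ψ : B →ₐ[k] A) (cu β : (C₀ ⧸ I) ⊗[k] B) =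
          Algebra.TensorProduct.map m (AlgHom.id k A) (cu χ₀ : C₀ ⊗[k] A) :=
        (congrArg Units.val (cu_comp β ψ)).symm.trans
          ((congrArg (fun x => (cu x : (C₀ ⧸ I) ⊗[k] A)) hβ).trans (congrArg Units.val (cu_map χ₀ m)))
      have h3 : ∀ t : (C₀ ⧸ I) ⊗[k] B,
          Algebra.TensorProduct.map (AlgHom.id k C) (ψ : B →ₐ[k] A) (Algebra.TensorProduct.map φ' (AlgHom.id k B) t) =
            Algebra.TensorProduct.map φ' (AlgHom.id k A) (Algebra.TensorProduct.map (AlgHom.id k (C₀ ⧸ I)) (ψ : B →ₐ[k] A) t) :=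
        fun t => by
          induction t using TensorProduct.induction_on with
          | zero => simp
          | add x y hx hy => simp only [map_add, hx, hy]
          | tmul x y => rfl
      rw [h1, h3, h2, ← hu]
      generalize (cu χ₀ : C₀ ⊗[k] A) = t
      induction t using TensorProduct.induction_on with
      | zero => simp
      | add x y hx hy => simp only [map_add, hx, hy]
      | tmul x y => rfl
  obtain ⟨φk, -⟩ := key k 0
  exact ⟨C₀ ⧸ I, inferInstance, inferInstance, β, RingHom.domain_nontrivial φk.toRingHom, key⟩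

/-- The unipotent part has finitely many points. -/
theorem finite_points (J : Ideal A) [J.IsHopfIdeal k] [Coalgebra.IsCocomm k (A ⧸ J)] (ψ : B →ₐc[k] A)
    (hψ : Function.Injective ψ) (hJ : J = Ideal.map (ψ : B →+* A) (RingHom.ker (Bialgebra.counitAlgHom k B)))
    (hK : ∀ b : B, ∃ n, b ∈ Groth.Agent.UnipHopf.K k B n)
    (D : Over (Spec (CommRingCat.of k))) [GrpObj D] [IsCommMonObj D]
    (e : CGrpSh.pts Scheme.fppfPrecoverage D ≅ CGrpSh2.dualSh Scheme.fppfPrecoverage (shf (k := k) A))
    (hB : GmBidualLib.Bid (shf (k := k) B)) (K : Type u) [Field K] [Algebra k K] : Finite (B →ₐ[k] K) := by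
  classical
  obtain ⟨R, _, _, β, hR, key⟩ := exists_universal_unit J ψ hψ hJ hK D e
  let bas := Module.Free.chooseBasis k B
  let w : R ⊗[k] B := (cu β : R ⊗[k] B)
  let E := TensorProduct.equivFinsuppOfBasisRight (M := R) bas
  let coef := E w
  -- the coefficients are constants modulo nilpotents
  have hnil : ∀ m, IsNilpotent (coef m - algebraMap k R (bas.repr 1 m)) := fun m => by
    rw [← mem_nilradical, nilradical_eq_sInf, Submodule.mem_sInf]
    intro (P : Ideal R) (hP : P.IsPrime)
    haveI := hP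
    let π : R →ₐ[k] P.ResidueField := IsScalarTower.toAlgHom k R P.ResidueField
    have h0 : Algebra.TensorProduct.map π (AlgHom.id k B) w = 1 := by
      have h := eq_zero_of_unipotent hK (((Jf).overMapPullback AddCommGrpCat.{u + 1} (pt π)).map β)
      have h2 := congrArg (fun x => (cu x : P.ResidueField ⊗[k] B)) h
      simpa [cu_map, cu_zero] using h2
    have h1 : ∀ t : R ⊗[k] B, TensorProduct.equivFinsuppOfBasisRight (M := P.ResidueField) bas
        (Algebra.TensorProduct.map π (AlgHom.id k B) t) m = π (E t m) := fun t => by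
      induction t using TensorProduct.induction_on with
      | zero => simp
      | add x y hx hy => simp only [map_add, Finsupp.add_apply, hx, hy]
      | tmul x y =>
        rw [Algebra.TensorProduct.map_tmul, TensorProduct.equivFinsuppOfBasisRight_apply_tmul_apply]
        show _ = π (E (x ⊗ₜ[k] y) m)
        rw [TensorProduct.equivFinsuppOfBasisRight_apply_tmul_apply, map_smul]
        rfl
    have h2 := h1 w
    rw [h0, Algebra.TensorProduct.one_def, TensorProduct.equivFinsuppOfBasisRight_apply_tmul_apply,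
      ← Algebra.algebraMap_eq_smul_one] at h2
    have h3 : π (coef m - algebraMap k R (bas.repr 1 m)) = 0 := by
      rw [map_sub, π.commutes, sub_eq_zero]
      exact h2.symm
    exact Ideal.algebraMap_residueField_eq_zero.1 h3
  let R₀ := Algebra.adjoin k (↑(coef.support.image coef) : Set R)
  haveI : Module.Finite k R₀ := by
    refine Module.Finite.iff_fg.2 (fg_adjoin_of_finite (Finset.finite_toSet _) fun x hx => ?_)
    obtain ⟨m, -, rfl⟩ := Finset.mem_image.1 hx
    obtain ⟨n, hn⟩ := hnil m
    rw [show coef m = (coef m - algebraMap k R (bas.repr 1 m)) + algebraMap k R (bas.repr 1 m) by ring]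
    exact (IsIntegral.of_pow (Nat.succ_pos n) (by rw [pow_succ, hn, zero_mul]; exact isIntegral_zero)).add
      isIntegral_algebraMap
  let d := Module.finrank k R₀
  let r := Module.finBasis k R₀
  have hwR : ∃ g : Fin d → B, w = ∑ i, (r i : R) ⊗ₜ[k] g i := by
    have hw0 : w ∈ LinearMap.range ((R₀.val : R₀ →ₐ[k] R).toLinearMap.rTensor B) := by
      rw [show w = E.symm coef from (E.symm_apply_apply w).symm,
        TensorProduct.equivFinsuppOfBasisRight_symm_apply]
      refine sum_mem fun m hm => ?_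
      exact ⟨(⟨coef m, Algebra.subset_adjoin (Finset.mem_image_of_mem _ hm)⟩ : R₀) ⊗ₜ[k] bas m, rfl⟩
    obtain ⟨t, ht⟩ := hw0
    refine ⟨fun i => TensorProduct.equivFinsuppOfBasisLeft (N := B) r t i, ?_⟩
    conv_lhs => rw [← ht, ← (TensorProduct.equivFinsuppOfBasisLeft (N := B) r).symm_apply_apply t,
      TensorProduct.equivFinsuppOfBasisLeft_symm_apply, Finsupp.sum_fintype _ _ (fun i => TensorProduct.tmul_zero _ _)]
    rw [map_sum]
    rfl
  obtain ⟨g, hg⟩ := hwR
  -- dual functionals
  obtain ⟨f, hf⟩ : ∃ f : Fin d → (R →ₗ[k] k), ∀ i j, f i (r j : R) = if j = i then 1 else 0 := by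
    choose f hf using fun i : Fin d => LinearMap.exists_extend (p := Subalgebra.toSubmodule R₀) (r.coord i)
    refine ⟨f, fun i j => (LinearMap.congr_fun (hf i) (r j)).trans ?_⟩
    show (r.repr (r j)) i = _
    rw [r.repr_self, Finsupp.single_apply]
  -- the product of two universal characters
  let p₁ : R →ₐ[k] R ⊗[k] R := Algebra.TensorProduct.includeLeft
  let p₂ : R →ₐ[k] R ⊗[k] R := Algebra.TensorProduct.includeRight
  let β₁ : CategoryTheory.Sheaf.over (shf (k := k) B) (sp k (R ⊗[k] R)) ⟶ CategoryTheory.Sheaf.over Gms (sp k (R ⊗[k] R)) :=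
    ((Jf).overMapPullback AddCommGrpCat.{u + 1} (pt p₁)).map β
  let β₂ : CategoryTheory.Sheaf.over (shf (k := k) B) (sp k (R ⊗[k] R)) ⟶ CategoryTheory.Sheaf.over Gms (sp k (R ⊗[k] R)) :=
    ((Jf).overMapPullback AddCommGrpCat.{u + 1} (pt p₂)).map β
  obtain ⟨φ, hφ⟩ := key (R ⊗[k] R) (β₁ + β₂)
  have hrel : ∀ j l, g j * g l = ∑ i, TensorProduct.lid k k (TensorProduct.map (f j) (f l) (φ (r i : R))) • g i := by
    intro j l
    let F : (R ⊗[k] R) ⊗[k] B →ₗ[k] B :=
      (TensorProduct.lid k B).toLinearMap ∘ₗ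
        LinearMap.rTensor B ((TensorProduct.lid k k).toLinearMap ∘ₗ TensorProduct.map (f j) (f l))
    have hF : ∀ (x : R ⊗[k] R) (b : B), F (x ⊗ₜ[k] b) = TensorProduct.lid k k (TensorProduct.map (f j) (f l) x) • b :=
      fun x b => rfl
    rw [cu_add, Units.val_mul, show cu β₁ = _ from cu_map β p₁, show cu β₂ = _ from cu_map β p₂] at hφ
    have h := congrArg F hφ
    change F (Algebra.TensorProduct.map p₁ (AlgHom.id k B) w * Algebra.TensorProduct.map p₂ (AlgHom.id k B) w) =
      F (Algebra.TensorProduct.map φ (AlgHom.id k B) w) at h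
    simp only [hg, map_sum, Finset.sum_mul, Finset.mul_sum, Algebra.TensorProduct.map_tmul,
      Algebra.TensorProduct.tmul_mul_tmul, AlgHom.id_apply, hF, p₁, p₂, Algebra.TensorProduct.includeLeft_apply,
      Algebra.TensorProduct.includeRight_apply, one_mul, mul_one, TensorProduct.map_tmul, TensorProduct.lid_tmul,
      smul_eq_mul, hf] at h
    rw [← h, Finset.sum_eq_single l (fun a _ ha => ?_) (by simp), Finset.sum_eq_single j (fun b _ hb => ?_) (by simp)]
    · simp
    · simp [hb]
    · simp [ha]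
  -- coordinates of points
  let c : (B →ₐ[k] K) → (Fin d → K) := fun b i => b (g i)
  have hfin : (Set.range c).Finite := by
    refine finite_multiplicative _ ?_
      (fun j l => ∑ i, algebraMap k K (TensorProduct.lid k k (TensorProduct.map (f j) (f l) (φ (r i : R)))) •
        LinearMap.proj i) ?_
    · rintro _ ⟨b, rfl⟩ hc
      let m : R ⊗[k] B →ₐ[k] R ⊗[k] K := Algebra.TensorProduct.map (AlgHom.id k R) b
      have hu : IsUnit (m w) := (cu β).isUnit.map m
      have h0 : m w = 0 := by
        rw [hg, map_sum]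
        refine Finset.sum_eq_zero fun i _ => ?_
        rw [Algebra.TensorProduct.map_tmul, show b (g i) = 0 from congrFun hc i, TensorProduct.tmul_zero]
      haveI : Nontrivial (R ⊗[k] K) :=
        (Algebra.TensorProduct.includeLeft_injective (S := k) (A := R) (B := K) (algebraMap k K).injective).nontrivial
      exact not_isUnit_zero (h0 ▸ hu)
    · rintro _ ⟨b, rfl⟩ j l
      show b (g j) * b (g l) = _
      rw [← map_mul, hrel, map_sum, LinearMap.sum_apply]
      exact Finset.sum_congr rfl fun i _ => by rw [map_smul, LinearMap.smul_apply, Algebra.smul_def]; rfl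
  have hinj : Function.Injective c := fun b b' hbb => by
    haveI : IsIso (HomSh.bidualMap Jf (shf (k := k) B) (CGrpSh2.Gm Scheme.fppfPrecoverage (Spec (CommRingCat.of k)))).hom := by
      haveI : IsIso (HomSh.bidualMap Jf (shf (k := k) B) (CGrpSh2.Gm Scheme.fppfPrecoverage (Spec (CommRingCat.of k)))) := hB
      exact inferInstanceAs (IsIso ((sheafToPresheaf _ _).map
        (HomSh.bidualMap Jf (shf (k := k) B) (CGrpSh2.Gm Scheme.fppfPrecoverage (Spec (CommRingCat.of k))))))
    have hbi : Function.Bijective ((HomSh.bidualMap Jf (shf (k := k) B)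
        (CGrpSh2.Gm Scheme.fppfPrecoverage (Spec (CommRingCat.of k)))).hom.app (op (sp k K))) :=
      (ConcreteCategory.isIso_iff_bijective _).1 inferInstance
    have hs : GmExtLib.ptSec (pt b) = GmExtLib.ptSec (pt b') := by
      refine hbi.1 (Sheaf.hom_ext (NatTrans.ext (funext fun W => AddCommGrpCat.ext fun χ => ?_)))
      show HomSh.ev Jf χ ((shf (k := k) B).obj.map W.unop.hom.op (GmExtLib.ptSec (pt b))) =
        HomSh.ev Jf χ ((shf (k := k) B).obj.map W.unop.hom.op (GmExtLib.ptSec (pt b')))
      obtain ⟨I, C, _, _, e', hcov⟩ := GmBidualLib.exists_sp_cover W.unop.left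
      refine GaBidualLib.eq_of_cover Gms e' hcov fun i => ?_
      refine ((GmExtLib.ev_map (e' i) (χ : CategoryTheory.Sheaf.over (shf (k := k) B) W.unop.left ⟶
        CategoryTheory.Sheaf.over Gms W.unop.left) _).symm).trans (Eq.trans ?_ (GmExtLib.ev_map (e' i) _ _))
      rw [GmExtLib.map_map, GmExtLib.map_map, GmExtLib.map_ptSec, GmExtLib.map_ptSec]
      obtain ⟨σ, hσ⟩ := Groth.Agent.DiagRep.exists_pt (e' i ≫ W.unop.hom)
      rw [hσ, ← pt_comp, ← pt_comp]
      let χ' : CategoryTheory.Sheaf.over (shf (k := k) B) (sp k (C i)) ⟶ CategoryTheory.Sheaf.over Gms (sp k (C i)) :=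
        ((Jf).overMapPullback AddCommGrpCat.{u + 1} (e' i)).map χ
      show val χ' (𝟙 _) (pt (σ.comp b)) = val χ' (𝟙 _) (pt (σ.comp b'))
      rw [← pt_id, val_pt, val_pt]
      refine congrArg (uSec (k := k) (C i)) (Units.ext ?_)
      obtain ⟨θ, hθ⟩ := key (C i) χ'
      show Algebra.TensorProduct.lift (AlgHom.id k (C i)) (σ.comp b) _ (cu χ' : C i ⊗[k] B) =
        Algebra.TensorProduct.lift (AlgHom.id k (C i)) (σ.comp b') _ (cu χ' : C i ⊗[k] B)
      rw [hθ]
      change Algebra.TensorProduct.lift _ _ _ (Algebra.TensorProduct.map θ (AlgHom.id k B) w) =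
        Algebra.TensorProduct.lift _ _ _ (Algebra.TensorProduct.map θ (AlgHom.id k B) w)
      simp only [hg, map_sum]
      refine Finset.sum_congr rfl fun a _ => ?_
      have ha : b (g a) = b' (g a) := congrFun hbb a
      simp [ha]
    exact pt_injective (congrArg (fun v => v.down.toMul) hs)
  haveI := hfin.to_subtype
  exact Finite.of_injective (fun b => (⟨c b, b, rfl⟩ : Set.range c)) fun b b' h => hinj (congrArg Subtype.val h)

end GmAlmostLib
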