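import Groth.Agent.GmAlmostLib.Finite
import Groth.Agent.MultTorusLib.Univ
import Groth.Agent.GmCharLib.Main
import Groth.Agent.HopfFFLib.Consequences
import Mathlib.RingTheory.Jacobson.Artinian
import Mathlib.RingTheory.RootsOfUnity.Basic

/-!
# Almost tori from representability of the dual
-/

set_option autoImplicit false
set_option backward.isDefEq.respectTransparency false
set_option linter.style.haveILetI false
set_option maxHeartbeats 1600000
universe u

open CategoryTheory CategoryTheory.Limits MonoidalCategory CartesianMonoidalCategory AlgebraicGeometry Opposite CoactBr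
open GmVanishLib (shf shfMap fns fns_comp_pt fns_injective)
open scoped MonObj TensorProduct

attribute [local instance] CoactBr.braidedAlgSpecOf
attribute [-instance] CategoryTheory.Hom.commGroup

noncomputable section

namespace GmAlmostLib

/-- A finitely generated algebra with finitely many geometric points is finite. -/
theorem finite_of_finite_points {k : Type u} [Field k] (P : Type u) [CommRing P] [Algebra k P] [Algebra.FiniteType k P]
    (h : Finite (P →ₐ[k] AlgebraicClosure k)) : Module.Finite k P := by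
  classical
  haveI : IsNoetherianRing P := Algebra.FiniteType.isNoetherianRing k P
  haveI : IsJacobsonRing P := isJacobsonRing_of_finiteType (A := k)
  have hmax : ∀ m : Ideal P, m.IsMaximal → ∃ g : P →ₐ[k] AlgebraicClosure k, RingHom.ker g = m := fun m hm => by
    letI := Ideal.Quotient.field m
    haveI : Module.Finite k (P ⧸ m) := finite_of_finite_type_of_isJacobsonRing k _
    let j : (P ⧸ m) →ₐ[k] AlgebraicClosure k := IsAlgClosed.lift
    refine ⟨j.comp (Ideal.Quotient.mkₐ k m), Ideal.ext fun x => ?_⟩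
    show j (Ideal.Quotient.mk m x) = 0 ↔ _
    rw [map_eq_zero_iff j (RingHom.injective (j : (P ⧸ m) →+* AlgebraicClosure k)), Ideal.Quotient.eq_zero_iff_mem]
  haveI : Ring.KrullDimLE 0 P := Ring.krullDimLE_zero_iff.2 fun p hp => by
    haveI := Fintype.ofFinite (P →ₐ[k] AlgebraicClosure k)
    by_contra hne
    let S : Finset (P →ₐ[k] AlgebraicClosure k) :=
      Finset.univ.filter fun g => p ≤ RingHom.ker g ∧ (RingHom.ker g).IsMaximal
    have hle : S.inf (fun g => RingHom.ker g) ≤ p := by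
      intro x hx
      rw [← IsJacobsonRing.out' p hp.isRadical, Ideal.jacobson, Submodule.mem_sInf]
      rintro m ⟨hpm, hm⟩
      obtain ⟨g, rfl⟩ := hmax m hm
      exact Finset.inf_le (f := fun g => RingHom.ker g) (Finset.mem_filter.2 ⟨Finset.mem_univ g, hpm, hm⟩) hx
    obtain ⟨g, hg, hgp⟩ := (Ideal.IsPrime.inf_le' hp).1 hle
    obtain ⟨-, hpg, hgm⟩ := Finset.mem_filter.1 hg
    exact hne ((le_antisymm hpg hgp) ▸ hgm)
  haveI : IsArtinianRing P := IsNoetherianRing.isArtinianRing_of_krullDimLE_zero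
  exact (Module.finite_iff_isArtinianRing k P).2 inferInstance

/-- Characters trivial on torsion have all roots. -/
theorem exists_root {N : Type*} [CommGroup N] [hN : AddGroup.FG (Additive N)] {F : Type*} [CommGroup F]
    (hdiv : ∀ (x : F) (n : ℕ), ∃ y : F, y ^ (n + 1) = x) (χ : N →* F)
    (hχ : ∀ x : N, IsOfFinOrder x → χ x = 1) (n : ℕ) : ∃ ψ : N →* F, ψ ^ (n + 1) = χ := by
  classical
  let T := Submodule.torsion ℤ (Additive N)
  let χ' : Additive N →ₗ[ℤ] Additive F := χ.toAdditive.toIntLinearMap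
  have hT : T ≤ LinearMap.ker χ' := by
    intro x hx
    obtain ⟨a, ha⟩ := (Submodule.mem_torsion_iff _).1 hx
    refine hχ x.toMul (isOfFinOrder_iff_zpow_eq_one.2 ⟨(a : ℤ), nonZeroDivisors.ne_zero a.2, ?_⟩)
    exact congrArg Additive.toMul ha
  haveI : Module.Finite ℤ (Additive N) := Module.Finite.iff_addGroup_fg.2 hN
  haveI : Module.Finite ℤ (Additive N ⧸ T) := Module.Finite.quotient ℤ T
  haveI : Module.Free ℤ (Additive N ⧸ T) := Module.free_of_finite_type_torsion_free'
  let b := Module.Free.chooseBasis ℤ (Additive N ⧸ T)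
  let χ'' := T.liftQ χ' hT
  choose r hr using fun i => hdiv (χ'' (b i)).toMul n
  let ψ' : (Additive N ⧸ T) →ₗ[ℤ] Additive F := b.constr ℤ fun i => Additive.ofMul (r i)
  have hψ : (n + 1) • ψ' = χ'' := b.ext fun i => by
    rw [LinearMap.smul_apply, b.constr_basis]
    exact congrArg Additive.ofMul (hr i)
  refine ⟨(AddMonoidHom.toMultiplicative (ψ'.comp T.mkQ).toAddMonoidHom : N →* F), MonoidHom.ext fun x => ?_⟩
  exact congrArg Additive.toMul (LinearMap.congr_fun hψ (T.mkQ (Additive.ofMul x)))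

variable {k : Type u} [Field k]

/-- Points of a group of multiplicative type with trivial restriction to torsion are divisible. -/
theorem exists_divisible {Q : Type u} [CommRing Q] [HopfAlgebra k Q] [Coalgebra.IsCocomm k Q] [Algebra.FiniteType k Q]
    {N : Type u} [CommGroup N] (E : Groth.Agent.TorusField.Split k Q (Additive N) (AlgebraicClosure k)) :
    ∃ (Θ : Type u) (_ : Finite Θ) (θ : (sp k (AlgebraicClosure k) ⟶ sp k Q) → Θ),
      ∀ x y, θ x = θ y → ∀ n : ℕ, ∃ z, z ^ (n + 1) = y⁻¹ * x := by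
  classical
  let K := AlgebraicClosure k
  let Γ' := Γ((sp k K).left, ⊤)
  let iso : Γ' ≃+* K := (Scheme.ΓSpecIso (CommRingCat.of K)).commRingCatIsoToRingEquiv
  haveI : AddGroup.FG (Additive N) := AddGroup.fg_iff_addMonoid_fg.2 (Groth.Agent.DiagHopf.fg_of_split E)
  -- characters of points
  let chi : (sp k K ⟶ sp k Q) → N →* K := fun x =>
    (iso.toRingHom.comp (fns (GmBidualLib.tw E (𝟙 _) x))).toMonoidHom.comp (MonoidAlgebra.of k N)
  let chu : (sp k K ⟶ sp k Q) → N →* Kˣ := fun x => (chi x).toHomUnits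
  have hval : ∀ (x : sp k K ⟶ sp k Q) (m : N), ((chu x m : Kˣ) : K) =
      iso (fns (GmBidualLib.tw E (𝟙 _) x) (MonoidAlgebra.single m 1)) := fun x m => rfl
  have hmul : ∀ x y, chu (x * y) = chu x * chu y := fun x y => by
    refine MonoidHom.ext fun m => Units.ext ?_
    rw [MonoidHom.mul_apply, Units.val_mul, hval, hval, hval, GmBidualLib.tw_mul, ← map_mul]
    congr 1
    obtain ⟨w, hl, hr⟩ := GmBidualLib.exists_pair (GmBidualLib.tw E (𝟙 _) x) (GmBidualLib.tw E (𝟙 _) y)
    have hm : pt (Algebra.TensorProduct.includeLeft : MonoidAlgebra k N →ₐ[k] MonoidAlgebra k N ⊗[k] MonoidAlgebra k N) *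
        pt Algebra.TensorProduct.includeRight = pt (Bialgebra.comulAlgHom k (MonoidAlgebra k N)) := by
      rw [Groth.Agent.DiagRep.pt_mul_conv, ← Groth.Agent.DiagRep.toConv_comul]
    rw [← hl, ← hr, ← MonObj.comp_mul, hm, fns_comp_pt, fns_comp_pt, fns_comp_pt, ← map_mul,
      Bialgebra.comulAlgHom_apply, (MonoidAlgebra.isGroupLikeElem_single_one (R := k) (A := k) m).comul_eq_tmul_self]
    simp [Algebra.TensorProduct.tmul_mul_tmul]
    rfl
  have hinj : ∀ x y, chu x = chu y → x = y := fun x y h =>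
    (GmBidualLib.tw_bijective E (𝟙 _)).1 (fns_injective (MonoidAlgebra.ringHom_ext (fun r => by
      show fns _ (algebraMap k _ r) = fns _ (algebraMap k _ r)
      rw [GmBidualLib.fns_algebraMap, GmBidualLib.fns_algebraMap]) fun m => iso.injective (by
        rw [← hval, ← hval, h])))
  have hsurj : ∀ χ : N →* Kˣ, ∃ x, chu x = χ := fun χ => by
    letI : Algebra k Γ' := (GmBidualLib.strMap (sp k K)).toAlgebra
    let h : MonoidAlgebra k N →ₐ[k] Γ' :=
      MonoidAlgebra.lift k Γ' N (iso.symm.toMonoidHom.comp ((Units.coeHom K).comp χ))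
    obtain ⟨y, hy⟩ := GmBidualLib.exists_point (Z := sp k K) h.toRingHom fun r => h.commutes r
    obtain ⟨x, hx⟩ := (GmBidualLib.tw_bijective E (𝟙 _)).2 y
    refine ⟨x, MonoidHom.ext fun m => Units.ext ?_⟩
    rw [hval, hx, hy]
    show iso (h (MonoidAlgebra.single m 1)) = _
    simp [h]
  let Φ : (sp k K ⟶ sp k Q) →* (N →* Kˣ) := MonoidHom.mk' chu hmul
  have hroot : ∀ (x : Kˣ) (n : ℕ), ∃ y : Kˣ, y ^ (n + 1) = x := fun x n => by
    obtain ⟨z, hz⟩ := IsAlgClosed.exists_pow_nat_eq (x : K) (Nat.succ_pos n)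
    have hz0 : z ≠ 0 := fun h => x.ne_zero (by rw [← hz, h, zero_pow (Nat.succ_ne_zero n)])
    exact ⟨Units.mk0 z hz0, Units.ext (by rw [Units.val_pow_eq_pow_val]; exact hz)⟩
  -- restriction to torsion
  haveI : Finite (CommGroup.torsion N) := by
    haveI : Module.Finite ℤ (Additive N) := Module.Finite.iff_addGroup_fg.2 inferInstance
    haveI : Module.Finite ℤ (Submodule.torsion ℤ (Additive N)) := Module.Finite.of_fg (IsNoetherian.noetherian _)
    haveI : Finite (Submodule.torsion ℤ (Additive N)) := Module.finite_of_fg_torsion _ (Submodule.torsion_isTorsion)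
    refine Finite.of_injective (β := Submodule.torsion ℤ (Additive N))
      (fun x => ⟨Additive.ofMul (x : N), ?_⟩) fun x y h => Subtype.ext (congrArg (fun z => z.1.toMul) h)
    obtain ⟨j, hj, hjx⟩ := isOfFinOrder_iff_zpow_eq_one.1 ((CommGroup.mem_torsion _).1 x.2)
    exact (Submodule.mem_torsion_iff _).2 ⟨⟨j, mem_nonZeroDivisors_of_ne_zero hj⟩, congrArg Additive.ofMul hjx⟩
  let Θ := CommGroup.torsion N → rootsOfUnity (Nat.card (CommGroup.torsion N)) K
  haveI : NeZero (Nat.card (CommGroup.torsion N)) := ⟨Nat.card_pos.ne'⟩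
  refine ⟨Θ, inferInstance, fun x t => ⟨chu x t.1, ?_⟩, fun x y h n => ?_⟩
  · rw [mem_rootsOfUnity, ← map_pow, ← Subgroup.coe_pow, pow_card_eq_one', Subgroup.coe_one, map_one]
  · obtain ⟨ψ, hψ⟩ := exists_root hroot (Φ (y⁻¹ * x)) (fun t ht => by
      have h' : chu x t = chu y t := congrArg Subtype.val (congrFun h ⟨t, (CommGroup.mem_torsion _).2 ht⟩)
      rw [map_mul, map_inv, MonoidHom.mul_apply, MonoidHom.inv_apply]
      show (chu y t)⁻¹ * chu x t = 1
      rw [h', inv_mul_cancel]) n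
    obtain ⟨z, rfl⟩ := hsurj ψ
    exact ⟨z, hinj _ _ ((map_pow Φ z (n + 1)).trans hψ)⟩

/-- An affine group with representable dual is an almost torus. -/
theorem exists_torus (G : Over (Spec (CommRingCat.of k))) [GrpObj G] [IsCommMonObj G] [IsAffine G.left]
    [LocallyOfFiniteType G.hom] (D : Over (Spec (CommRingCat.of k))) [GrpObj D] [IsCommMonObj D]
    (e : CGrpSh.pts Scheme.fppfPrecoverage D ≅ CGrpSh2.dualSh Scheme.fppfPrecoverage (CGrpSh.pts Scheme.fppfPrecoverage G)) :
    ∃ (T Q : Over (Spec (CommRingCat.of k))) (_ : GrpObj T) (_ : GrpObj Q) (j : T ⟶ G) (q : G ⟶ Q)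
      (_ : IsMonHom j) (_ : IsMonHom q), Mono j ∧ Red.IsTorus T ∧ AlgGrp.IsKernel j q ∧ Flat q.left ∧
        Surjective q.left ∧ IsFinite Q.hom := by
  classical
  let K := AlgebraicClosure k
  obtain ⟨A, _, _, _, _, v, hv, hv'⟩ := GmCharLib.exists_hopf G
  haveI := hv; haveI := hv'
  haveI : IsIso v.inv := inferInstance
  obtain ⟨ev'⟩ := GmVanishLib.exists_ptsIso v.hom inferInstance
  let Φd := (HomSh.homShBi (QuotSh.J Scheme.fppfPrecoverage (Spec (CommRingCat.of k)))).flip.obj
    (CGrpSh2.Gm Scheme.fppfPrecoverage (Spec (CommRingCat.of k)))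
  let eA : CGrpSh.pts Scheme.fppfPrecoverage D ≅ CGrpSh2.dualSh Scheme.fppfPrecoverage (shf (k := k) A) :=
    e ≪≫ Φd.mapIso ev'.op
  -- the multiplicative and unipotent parts
  obtain ⟨J, hJH, hmult, -, B, _, _, ψ, hinj, hJ, hU⟩ := Groth.Agent.S4130.result k A
  haveI : Coalgebra.IsCocomm k B := GmBidualLib.isCocomm_of_injective ψ hinj
  let qJ := Bialgebra.Quotient.mkBialgHom (R := k) J
  haveI : Coalgebra.IsCocomm k (A ⧸ J) := Groth.Agent.MultClosed.isCocomm_of_surjective qJ Ideal.Quotient.mk_surjective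
  haveI : Algebra.FiniteType k (A ⧸ J) :=
    Algebra.FiniteType.of_surjective (Ideal.Quotient.mkₐ k J) Ideal.Quotient.mk_surjective
  haveI : LocallyOfFiniteType (sp k A).hom :=
    (HasRingHomProperty.Spec_iff (P := @LocallyOfFiniteType) (φ := CommRingCat.ofHom (algebraMap k A))).2
      (RingHom.finiteType_algebraMap.2 inferInstance)
  haveI : LocallyOfFiniteType (sp k (A ⧸ J)).hom :=
    (HasRingHomProperty.Spec_iff (P := @LocallyOfFiniteType) (φ := CommRingCat.ofHom (algebraMap k (A ⧸ J)))).2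
      (RingHom.finiteType_algebraMap.2 inferInstance)
  haveI : IsAffine (sp k A).left := inferInstanceAs (IsAffine (Spec (CommRingCat.of A)))
  haveI : IsAffine (sp k B).left := inferInstanceAs (IsAffine (Spec (CommRingCat.of B)))
  haveI : QuasiCompact (sp k A).hom := by
    haveI : IsAffineHom (sp k A).hom := isAffineHom_of_isAffine _
    infer_instance
  haveI : IsMonHom (pt (ψ : B →ₐ[k] A)) := SekSuwa.isMonHom_specHom ψ
  haveI : Algebra.FiniteType k B := by
    obtain ⟨-, -, h⟩ := OrbitLib.ToAffine.flat_surjective_finiteType (sp k A) (sp k B) (pt (ψ : B →ₐ[k] A))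
      (OrbitLib.ToAffine.ker_SpecMap_eq_bot _ hinj)
    exact RingHom.finiteType_algebraMap.1
      ((HasRingHomProperty.Spec_iff (P := @LocallyOfFiniteType) (φ := CommRingCat.ofHom (algebraMap k B))).1 h)
  have hBid : GmBidualLib.Bid (shf (k := k) B) := by
    obtain ⟨p, hp⟩ := CharP.exists k
    rcases CharP.char_is_prime_or_zero k p with hpr | rfl
    · haveI : Fact p.Prime := ⟨hpr⟩
      exact GmBidualLib.bid_affine_charP p B
    · haveI : CharZero k := CharP.charP_to_charZero k
      exact GmBidualLib.bid_affine_charZero B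
  haveI hBfin : Finite (B →ₐ[k] K) :=
    finite_points J ψ hinj hJ (Groth.Agent.UnipHopf.exhaustive_of_isUnipotent hU) D eA hBid K
  -- the torus
  obtain ⟨T', _, _, hff, N₁, _, ⟨e'⟩⟩ : ∃ (R' : Type u) (_ : CommRing R') (_ : Algebra k R'), Module.FaithfullyFlat k R' ∧
      SGA3b.IsDiag R' (R' ⊗[k] (A ⧸ J)) := hmult
  haveI := hff
  obtain ⟨E₁⟩ := Groth.Agent.DiagHopf.exists_split_of_bialgEquiv e'
  have hMT := Groth.Agent.DiagHopf.isMultType_of_split E₁
  obtain ⟨L, _, _, N, _, ⟨E₀⟩⟩ := Groth.Agent.DiagHopf.exists_field_split hMT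
  obtain ⟨E⟩ := Groth.Agent.DiagHopf.exists_split_algClosure' E₀ K
  obtain ⟨Θ, hΘ, θ, hθ⟩ := exists_divisible E
  let M := sp k (A ⧸ J)
  haveI : IsIso (𝟙 M) := inferInstance
  have hM : SGA3x.IsMultTypeFT M := Groth.Agent.HomCorr.isMultTypeFT_of_isMultType (𝟙 M) hMT
  haveI : IsAffineHom M.hom := by
    haveI : IsAffine M.left := inferInstanceAs (IsAffine (Spec (CommRingCat.of (A ⧸ J))))
    exact isAffineHom_of_isAffine _
  obtain ⟨C⟩ := Groth.Agent.MultTorus.nonempty_charts_of_isMultTypeFT hM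
  obtain ⟨gT, hgT⟩ := Groth.Agent.MultTorus.exists_grpObj C
  haveI := hgT
  have hT : Red.IsTorus (Groth.Agent.MultTorus.torus M) := Groth.Agent.MultTorus.isTorus_torus hM
  let T := Groth.Agent.MultTorus.torus M
  let i : M ⟶ G := pt (qJ : A →ₐ[k] A ⧸ J) ≫ v.hom
  haveI : IsMonHom (pt (qJ : A →ₐ[k] A ⧸ J)) := SekSuwa.isMonHom_specHom qJ
  let j : T ⟶ G := Groth.Agent.MultTorus.torIncl M ≫ i
  haveI : IsClosedImmersion j.left := by
    haveI : IsClosedImmersion (pt (qJ : A →ₐ[k] A ⧸ J)).left :=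
      IsClosedImmersion.spec_of_surjective (CommRingCat.ofHom (qJ : A →ₐ[k] A ⧸ J).toRingHom) Ideal.Quotient.mk_surjective
    haveI : IsIso v.hom.left := inferInstanceAs (IsIso ((Over.forget _).map v.hom))
    show IsClosedImmersion ((Groth.Agent.MultTorus.torIncl M).left ≫ (pt (qJ : A →ₐ[k] A ⧸ J)).left ≫ v.hom.left)
    infer_instance
  haveI : Mono j := Over.mono_of_mono_left _
  have hn : AlgGrp.IsNormalHom j := fun Z g m => ⟨m, by
    letI : CommGroup (Z ⟶ G) := CategoryTheory.Hom.commGroup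
    rw [mul_comm g, mul_inv_cancel_right]⟩
  obtain ⟨P, hPg, p, hPa, hpm, ⟨hPft, hpf, hps⟩, hker⟩ := AntiAffLib.exists_affine_kernel' j hn
  haveI := hPa; haveI := hpm; haveI := hPft; haveI := hpf; haveI := hps
  refine ⟨T, P, gT, hPg, j, p, inferInstance, hpm, inferInstance, hT, ?_, hpf, hps, ?_⟩
  · have w : j ≫ p = toUnit T ≫ η[P] := ((hker T j).2 ⟨𝟙 _, Category.id_comp _⟩).trans Hom.one_def
    refine IsPullback.of_isLimit' ⟨w⟩ (PullbackCone.IsLimit.mk _
      (fun s => ((hker s.pt s.fst).1 (s.condition.trans (by rw [Hom.one_def, toUnit_unique s.snd (toUnit _)]))).choose)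
      (fun s => ((hker s.pt s.fst).1 (s.condition.trans (by rw [Hom.one_def, toUnit_unique s.snd (toUnit _)]))).choose_spec)
      (fun s => toUnit_unique _ _) fun s m hm₁ _ => (cancel_mono j).1 (hm₁.trans
        ((hker s.pt s.fst).1 (s.condition.trans (by rw [Hom.one_def, toUnit_unique s.snd (toUnit _)]))).choose_spec.symm))
  obtain ⟨C', _, _, u, hu, hu'⟩ := DeligneKillLib.exists_sp P
  haveI := hu; haveI := hu'
  haveI : IsIso u.hom.left := inferInstanceAs (IsIso ((Over.forget _).map u.hom))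
  haveI hC'ft : Algebra.FiniteType k C' := by
    have h : LocallyOfFiniteType (sp k C').hom := by rw [← Over.w u.hom]; infer_instance
    exact RingHom.finiteType_algebraMap.1 ((HasRingHomProperty.Spec_iff (P := @LocallyOfFiniteType)
      (φ := CommRingCat.ofHom (algebraMap k C'))).1 h)
  obtain ⟨φ, hφ⟩ := AntiAffLib.exists_bialgHom (v.hom ≫ p ≫ u.inv)
  have hφi : Function.Injective φ := by
    haveI : IsIso v.hom.left := inferInstanceAs (IsIso ((Over.forget _).map v.hom))
    haveI : IsIso u.inv.left := inferInstanceAs (IsIso ((Over.forget _).map u.inv))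
    have h : Flat (pt (φ : C' →ₐ[k] A)).left ∧ Surjective (pt (φ : C' →ₐ[k] A)).left := by
      rw [← hφ, Over.comp_left, Over.comp_left]; exact ⟨inferInstance, inferInstance⟩
    have h2 : (φ : C' →+* A).FaithfullyFlat :=
      (flat_and_surjective_SpecMap_iff (CommRingCat.ofHom (φ : C' →ₐ[k] A).toRingHom)).1 h
    exact RingHom.FaithfullyFlat.injective h2
  -- finitely many points
  let iM : (sp k K ⟶ M) → (sp k K ⟶ sp k A) := fun m => m ≫ pt (qJ : A →ₐ[k] A ⧸ J)
  have hkill : ∀ y : sp k K ⟶ M, (∀ n : ℕ, ∃ z, z ^ (n + 1) = y) → iM y ≫ v.hom ≫ p = 1 := fun y hy => by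
    obtain ⟨l, hl⟩ := Groth.Agent.MultTorus.exists_lift y (iSup_le fun n => by
      obtain ⟨z, rfl⟩ := hy n
      rw [show z ^ (n + 1) = z ≫ (𝟙 M) ^ (n + 1) by rw [MonObj.comp_pow, Category.comp_id], Over.comp_left]
      exact Scheme.Hom.le_ker_comp _ _)
    rw [← Category.assoc]
    refine (hker _ _).2 ⟨l, ?_⟩
    show l ≫ Groth.Agent.MultTorus.torIncl M ≫ _ ≫ _ = _
    rw [← Category.assoc, hl, ← Category.assoc]
  have hsec : ∀ g g' : A →ₐ[k] K, g.comp (ψ : B →ₐ[k] A) = g'.comp (ψ : B →ₐ[k] A) →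
      ∃ m : sp k K ⟶ M, pt g = pt g' * iM m := fun g g' h => by
    obtain ⟨f, hf⟩ := Groth.Agent.DiagRep.exists_pt ((pt g')⁻¹ * pt g)
    have h1 : f.comp (ψ : B →ₐ[k] A) = (Algebra.ofId k K).comp (Bialgebra.counitAlgHom k B) := pt_injective (by
      rw [pt_comp, ← hf, Groth.Agent.DiagRep.pt_one, MonObj.mul_comp, GrpObj.inv_comp, ← pt_comp, ← pt_comp, h,
        inv_mul_cancel])
    have h2 : ∀ a ∈ J, f a = 0 := by
      intro a ha
      rw [hJ] at ha
      refine (Ideal.map_le_iff_le_comap.2 (fun b hb => ?_) ha : a ∈ RingHom.ker f)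
      show f (ψ b) = 0
      rw [show f (ψ b) = (f.comp (ψ : B →ₐ[k] A)) b from rfl, h1]
      show algebraMap k K (Coalgebra.counit (R := k) b) = 0
      rw [show Coalgebra.counit (R := k) b = 0 from hb, map_zero]
    refine ⟨pt (Ideal.Quotient.liftₐ J f h2), ?_⟩
    show pt g = pt g' * (_ ≫ pt (qJ : A →ₐ[k] A ⧸ J))
    rw [← pt_comp, show (Ideal.Quotient.liftₐ J f h2).comp (qJ : A →ₐ[k] A ⧸ J) = f from AlgHom.ext fun a => rfl, ← hf,
      mul_inv_cancel_left]
  -- representatives
  let rep : (B →ₐ[k] K) → (A →ₐ[k] K) := fun b => (Groth.Agent.HopfFF.exists_lift_point ψ hinj K b).choose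
  have hrep : ∀ b, (rep b).comp (ψ : B →ₐ[k] A) = b := fun b =>
    (Groth.Agent.HopfFF.exists_lift_point ψ hinj K b).choose_spec
  let repM : Θ → (sp k K ⟶ M) := fun t => if h : ∃ m, θ m = t then h.choose else 1
  haveI : Finite (C' →ₐ[k] K) := by
    have hsurj : Function.Surjective (fun bt : (B →ₐ[k] K) × Θ =>
        ((pt (rep bt.1) * iM (repM bt.2)) ≫ v.hom ≫ p ≫ u.inv : sp k K ⟶ sp k C')) := fun y => by
      obtain ⟨y', rfl⟩ := Groth.Agent.DiagRep.exists_pt y
      obtain ⟨g, hg⟩ := Groth.Agent.HopfFF.exists_lift_point φ hφi K y'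
      obtain ⟨m, hm⟩ := hsec g (rep (g.comp (ψ : B →ₐ[k] A))) (hrep _).symm
      refine ⟨(g.comp (ψ : B →ₐ[k] A), θ m), ?_⟩
      have h1 : θ m = θ (repM (θ m)) := by
        show θ m = θ (dite _ _ _)
        rw [dif_pos ⟨m, rfl⟩]
        exact (Exists.choose_spec (⟨m, rfl⟩ : ∃ m', θ m' = θ m)).symm
      have h2 := hkill _ (hθ m (repM (θ m)) h1)
      have hgy : pt y' = pt g ≫ v.hom ≫ p ≫ u.inv := by rw [← hg, pt_comp, hφ]
      show (pt (rep _) * iM (repM (θ m))) ≫ v.hom ≫ p ≫ u.inv = pt y'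
      rw [hgy, hm]
      have h3 : iM m = iM (repM (θ m)) * iM ((repM (θ m))⁻¹ * m) := by
        show _ ≫ _ = (_ ≫ _) * (_ ≫ _)
        rw [← MonObj.mul_comp, mul_inv_cancel_left]
      rw [h3, ← mul_assoc, MonObj.mul_comp (pt (rep _) * iM (repM (θ m))), ← Category.assoc v.hom p u.inv,
        ← Category.assoc (iM _) (v.hom ≫ p), h2, MonObj.one_comp, mul_one]
    haveI := Finite.of_surjective _ hsurj
    exact Finite.of_injective _ (pt_injective (R := k) (B := C') (K := K))
  haveI : Module.Finite k C' := finite_of_finite_points C' inferInstance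
  haveI : IsFinite (sp k C').hom :=
    (IsFinite.SpecMap_iff (CommRingCat.ofHom (algebraMap k C'))).2 (RingHom.finite_algebraMap.2 inferInstance)
  haveI : IsIso u.inv.left := inferInstanceAs (IsIso ((Over.forget _).map u.inv))
  rw [← Over.w u.inv]
  infer_instance

end GmAlmostLib
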