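import Groth.Agent.GmBidualLib.Mult
import Groth.Agent.DiagHopfLib.Descent

/-!
# Units of homomorphisms to the multiplicative group over affine objects
-/

set_option autoImplicit false
set_option backward.isDefEq.respectTransparency false
set_option linter.style.haveILetI false
set_option maxHeartbeats 1600000
universe u

open CategoryTheory CategoryTheory.Limits MonoidalCategory CartesianMonoidalCategory AlgebraicGeometry Opposite CoactBr
open GmCharLib (uSec uSec_mul uSec_bijective uVal uSec_uVal map_uSec)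
open GmVanishLib (shf shfMap fns fns_comp_pt fns_injective)
open GmBidualLib (wpair wpair_left wpair_right comp_wpair pair_ext)
open scoped MonObj TensorProduct

attribute [local instance] CoactBr.braidedAlgSpecOf
attribute [-instance] CategoryTheory.Hom.commGroup

noncomputable section

namespace GmAlmostLib

variable {k : Type u} [Field k]

local notation "Jf" => QuotSh.J Scheme.fppfPrecoverage (Spec (CommRingCat.of k))
local notation "Gms" => GmExtLib.G (Spec (CommRingCat.of k))

variable {X : Type u} [CommRing X] [HopfAlgebra k X] [Coalgebra.IsCocomm k X] {C : Type u} [CommRing C] [Algebra k C]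
  (χ : CategoryTheory.Sheaf.over (shf (k := k) X) (sp k C) ⟶
    CategoryTheory.Sheaf.over (GmExtLib.G (Spec (CommRingCat.of k))) (sp k C))

/-- The value on a pair of points. -/
def val {Z : Over (Spec (CommRingCat.of k))} (z : Z ⟶ sp k C) (x : Z ⟶ sp k X) : (Gms).obj.obj (op Z) :=
  χ.hom.app (op (Over.mk z)) (GmExtLib.ptSec x)

theorem map_val {Z Z' : Over (Spec (CommRingCat.of k))} (φ : Z' ⟶ Z) (z : Z ⟶ sp k C) (x : Z ⟶ sp k X) :
    (Gms).obj.map φ.op (val χ z x) = val χ (φ ≫ z) (φ ≫ x) :=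
  (NatTrans.naturality_apply χ.hom (Over.homMk φ rfl : Over.mk (φ ≫ z) ⟶ Over.mk z).op (GmExtLib.ptSec x)).symm

theorem val_mul {Z : Over (Spec (CommRingCat.of k))} (z : Z ⟶ sp k C) (x y : Z ⟶ sp k X) :
    val χ z (x * y) = val χ z x + val χ z y :=
  (congrArg (fun w => χ.hom.app (op (Over.mk z)) w) (GmExtLib.ptSec_mul x y)).trans (map_add _ _ _)

/-- The unit of a homomorphism. -/
def cu : (C ⊗[k] X)ˣ :=
  uVal (val χ (pt (Algebra.TensorProduct.includeLeft : C →ₐ[k] C ⊗[k] X))
    (pt (Algebra.TensorProduct.includeRight : X →ₐ[k] C ⊗[k] X)))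

/-- The values are pullbacks of the unit. -/
theorem val_eq {Z : Over (Spec (CommRingCat.of k))} (z : Z ⟶ sp k C) (x : Z ⟶ sp k X) :
    val χ z x = (Gms).obj.map (wpair z x).op (uSec (C ⊗[k] X) (cu χ)) := by
  rw [cu, uSec_uVal, map_val, wpair_left, wpair_right]

/-- The value on points of an algebra. -/
theorem val_pt {D : Type u} [CommRing D] [Algebra k D] (φ : C →ₐ[k] D) (f : X →ₐ[k] D) :
    val χ (pt φ) (pt f) =
      uSec D (Units.map (Algebra.TensorProduct.lift φ f fun _ _ => Commute.all _ _).toRingHom.toMonoidHom (cu χ)) := by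
  let w := Algebra.TensorProduct.lift φ f fun _ _ => Commute.all _ _
  have h1 : pt w ≫ pt (Algebra.TensorProduct.includeLeft : C →ₐ[k] C ⊗[k] X) = pt φ := by
    rw [← pt_comp]; exact congrArg pt (Algebra.TensorProduct.lift_comp_includeLeft φ f fun _ _ => Commute.all _ _)
  have h2 : pt w ≫ pt (Algebra.TensorProduct.includeRight : X →ₐ[k] C ⊗[k] X) = pt f := by
    rw [← pt_comp]; exact congrArg pt (Algebra.TensorProduct.lift_comp_includeRight φ f fun _ _ => Commute.all _ _)
  rw [← map_uSec, cu, uSec_uVal, map_val, h1, h2]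

theorem eq_of_cu_eq {χ' : CategoryTheory.Sheaf.over (shf (k := k) X) (sp k C) ⟶ CategoryTheory.Sheaf.over Gms (sp k C)}
    (h : cu χ = cu χ') : χ = χ' := by
  refine Sheaf.hom_ext (NatTrans.ext (funext fun W => AddCommGrpCat.ext fun x => ?_))
  show val χ W.unop.hom x.down.toMul = val χ' W.unop.hom x.down.toMul
  rw [val_eq, val_eq, h]

theorem cu_add (χ' : CategoryTheory.Sheaf.over (shf (k := k) X) (sp k C) ⟶ CategoryTheory.Sheaf.over Gms (sp k C)) :
    cu (χ + χ') = cu χ * cu χ' :=
  (uSec_bijective (k := k) _).1 (by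
    rw [cu, uSec_uVal, uSec_mul, cu, cu, uSec_uVal, uSec_uVal]
    rfl)

theorem cu_zero : cu (0 : CategoryTheory.Sheaf.over (shf (k := k) X) (sp k C) ⟶ CategoryTheory.Sheaf.over Gms (sp k C)) = 1 := by
  have h := cu_add (0 : CategoryTheory.Sheaf.over (shf (k := k) X) (sp k C) ⟶ CategoryTheory.Sheaf.over Gms (sp k C)) 0
  rw [add_zero] at h
  exact mul_eq_left.1 h.symm

/-- The unit of a pullback. -/
theorem cu_map {C' : Type u} [CommRing C'] [Algebra k C'] (φ : C →ₐ[k] C') :
    cu (((Jf).overMapPullback AddCommGrpCat.{u + 1} (pt φ)).map χ) =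
      Units.map (Algebra.TensorProduct.map φ (AlgHom.id k X)).toRingHom.toMonoidHom (cu χ) := by
  refine (uSec_bijective (k := k) _).1 ?_
  rw [cu, uSec_uVal, ← map_uSec, cu, uSec_uVal, map_val]
  show val χ (pt (Algebra.TensorProduct.includeLeft : C' →ₐ[k] C' ⊗[k] X) ≫ pt φ) _ = _
  rw [← pt_comp, ← pt_comp, ← pt_comp]
  congr 1
  congr 1
  exact AlgHom.ext fun x => by simp

/-- The unit of a restriction. -/
theorem cu_comp {Y : Type u} [CommRing Y] [HopfAlgebra k Y] [Coalgebra.IsCocomm k Y] (π : X →ₐc[k] Y) :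
    cu (((Jf).overPullback AddCommGrpCat.{u + 1} (sp k C)).map (shfMap π) ≫ χ) =
      Units.map (Algebra.TensorProduct.map (AlgHom.id k C) (π : X →ₐ[k] Y)).toRingHom.toMonoidHom (cu χ) := by
  refine (uSec_bijective (k := k) _).1 ?_
  rw [cu, uSec_uVal, ← map_uSec, cu, uSec_uVal, map_val]
  show val χ (pt (Algebra.TensorProduct.includeLeft : C →ₐ[k] C ⊗[k] Y))
    (pt (Algebra.TensorProduct.includeRight : Y →ₐ[k] C ⊗[k] Y) ≫ pt (π : X →ₐ[k] Y)) = _
  rw [← pt_comp, ← pt_comp, ← pt_comp]
  congr 1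
  all_goals congr 1
  all_goals exact AlgHom.ext fun x => by simp

/-- The unit is multiplicative. -/
theorem cu_comul :
    Algebra.TensorProduct.map (AlgHom.id k C) (Bialgebra.comulAlgHom k X) (cu χ : C ⊗[k] X) =
      Algebra.TensorProduct.map (AlgHom.id k C) Algebra.TensorProduct.includeLeft (cu χ : C ⊗[k] X) *
        Algebra.TensorProduct.map (AlgHom.id k C) Algebra.TensorProduct.includeRight (cu χ : C ⊗[k] X) := by
  let i₁ : X →ₐ[k] X ⊗[k] X := Algebra.TensorProduct.includeLeft
  let i₂ : X →ₐ[k] X ⊗[k] X := Algebra.TensorProduct.includeRight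
  let l : C →ₐ[k] C ⊗[k] (X ⊗[k] X) := Algebra.TensorProduct.includeLeft
  let r : X ⊗[k] X →ₐ[k] C ⊗[k] (X ⊗[k] X) := Algebra.TensorProduct.includeRight
  have hm : pt (K := X ⊗[k] X) (Bialgebra.comulAlgHom k X) = pt i₁ * pt i₂ := by
    rw [Groth.Agent.DiagRep.pt_mul_conv, ← Groth.Agent.DiagRep.toConv_comul]
  have hlift : ∀ f : X →ₐ[k] X ⊗[k] X, Algebra.TensorProduct.lift l (r.comp f) (fun _ _ => Commute.all _ _) =
      Algebra.TensorProduct.map (AlgHom.id k C) f := fun f =>
    Algebra.TensorProduct.ext (AlgHom.ext fun c => by simp [l, r]) (AlgHom.ext fun x => by simp [l, r])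
  have hv : ∀ f : X →ₐ[k] X ⊗[k] X, val χ (pt l) (pt r ≫ pt f) =
      uSec (C ⊗[k] (X ⊗[k] X))
        (Units.map (Algebra.TensorProduct.map (AlgHom.id k C) f).toRingHom.toMonoidHom (cu χ)) := fun f => by
    rw [← pt_comp, val_pt, hlift]
  have h : Units.map (Algebra.TensorProduct.map (AlgHom.id k C) (Bialgebra.comulAlgHom k X)).toRingHom.toMonoidHom (cu χ) =
      Units.map (Algebra.TensorProduct.map (AlgHom.id k C) i₁).toRingHom.toMonoidHom (cu χ) *
        Units.map (Algebra.TensorProduct.map (AlgHom.id k C) i₂).toRingHom.toMonoidHom (cu χ) := by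
    refine (uSec_bijective (k := k) _).1 ?_
    rw [uSec_mul, ← hv, ← hv, ← hv, hm, MonObj.comp_mul, val_mul]
  exact congrArg Units.val h

/-- The unit is one at the origin. -/
theorem cu_counit :
    Algebra.TensorProduct.lift (AlgHom.id k C) ((Algebra.ofId k C).comp (Bialgebra.counitAlgHom k X))
      (fun _ _ => Commute.all _ _) (cu χ : C ⊗[k] X) = 1 := by
  let f : X →ₐ[k] C := (Algebra.ofId k C).comp (Bialgebra.counitAlgHom k X)
  have hf : pt f = (1 : sp k C ⟶ sp k X) := Groth.Agent.DiagRep.pt_one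
  have h0 : val χ (pt (AlgHom.id k C)) (pt f) = 0 := by
    have h := val_mul χ (pt (AlgHom.id k C)) (pt f) (pt f)
    rw [hf, one_mul] at h
    exact left_eq_add.1 (hf ▸ h)
  have h1 : Units.map (Algebra.TensorProduct.lift (AlgHom.id k C) f fun _ _ => Commute.all _ _).toRingHom.toMonoidHom (cu χ) = 1 := by
    refine (uSec_bijective (k := k) C).1 ?_
    rw [← val_pt, h0]
    have h3 := uSec_mul (k := k) (C := C) 1 1
    rw [one_mul] at h3
    exact (left_eq_add.1 h3).symm
  exact congrArg Units.val h1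

/-- Over a field the unit is group-like. -/
theorem isGL_cu : Groth.Agent.TorusField.IsGL k X C (cu χ : C ⊗[k] X) :=
  ⟨cu_comul χ, cu_counit χ⟩

end GmAlmostLib
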